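import Mathlib

/-!
# S5917, branch D (helper904): the abstract BETA lemma

A group `Q` with 8 elements and only one involution `z` acts on an 8-dimensional space `M` of characteristic 2 with an
invariant form `B`; `Y` a similitude derivation. Then `∑ q, q Y q⁻¹` is not invertible.
-/

set_option autoImplicit false
set_option linter.unusedSectionVars false

namespace Cfsg.Agent.H904.L34.Beta

open Module

variable {K : Type*} [Field K] {Q : Type*} [Group Q] [Fintype Q]

/-- a nonzero fixed vector of a 2-group in characteristic 2 -/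
theorem exists_fixed (h2 : (2 : K) = 0) (hQ : IsPGroup 2 Q) {M : Type*} [AddCommGroup M] [Module K M]
    (d : Representation K Q M) {v : M} (hv : v ≠ 0) :
    ∃ w, w ∈ AddSubgroup.closure (Set.range fun q => d q v) ∧ w ≠ 0 ∧ ∀ q, d q w = w := by
  let S : AddSubgroup M := AddSubgroup.closure (Set.range fun q => d q v)
  have hdd : ∀ x : M, x + x = 0 := fun x => by rw [← two_smul K x, h2, zero_smul]
  have hvS : v ∈ S := AddSubgroup.subset_closure ⟨1, by
    show d 1 v = v
    rw [map_one]
    rfl⟩
  have hS : ∀ q : Q, ∀ x ∈ S, d q x ∈ S := by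
    intro q x hx
    induction hx using AddSubgroup.closure_induction with
    | mem x hx =>
      obtain ⟨p, rfl⟩ := hx
      apply AddSubgroup.subset_closure
      refine ⟨q * p, ?_⟩
      show d (q * p) v = d q (d p v)
      rw [map_mul]
      rfl
    | zero => rw [map_zero]; exact S.zero_mem
    | add x y _ _ h1 h2 => rw [map_add]; exact S.add_mem h1 h2
    | neg x _ h => rw [map_neg]; exact S.neg_mem h
  haveI : AddGroup.FG S := (AddGroup.fg_iff_addSubgroup_fg S).2
    ⟨(Set.finite_range fun q => d q v).toFinset, by rw [Set.Finite.coe_toFinset]⟩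
  haveI : Finite S := by
    haveI : AddMonoid.FG S := AddGroup.fg_iff_addMonoid_fg.1 inferInstance
    apply AddCommGroup.finite_of_fg_torsion S
    intro x
    rw [isOfFinAddOrder_iff_nsmul_eq_zero]
    refine ⟨2, by norm_num, ?_⟩
    rw [two_nsmul]
    exact Subtype.ext (hdd x.1)
  have hcard : 2 ∣ Nat.card S := by
    have h1 : addOrderOf (⟨v, hvS⟩ : S) = 2 := by
      haveI : Fact (Nat.Prime 2) := ⟨Nat.prime_two⟩
      apply addOrderOf_eq_prime
      · rw [two_nsmul]
        exact Subtype.ext (hdd v)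
      · intro h
        exact hv (congrArg Subtype.val h)
    rw [← h1]
    exact addOrderOf_dvd_natCard _
  letI act : MulAction Q S :=
    { smul := fun q x => ⟨d q x.1, hS q _ x.2⟩
      one_smul := by
        intro x
        apply Subtype.ext
        show d 1 x.1 = x.1
        rw [map_one]
        rfl
      mul_smul := by
        intro p q x
        apply Subtype.ext
        show d (p * q) x.1 = d p (d q x.1)
        rw [map_mul]
        rfl }
  have hfix : (0 : S) ∈ MulAction.fixedPoints Q S := by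
    intro q
    apply Subtype.ext
    show d q 0 = 0
    rw [map_zero]
  haveI : Fact (Nat.Prime 2) := ⟨Nat.prime_two⟩
  obtain ⟨b, hb, hb0⟩ := hQ.exists_fixed_point_of_prime_dvd_card_of_fixed_point S hcard hfix
  refine ⟨b.1, b.2, ?_, ?_⟩
  · intro h
    exact hb0 (Subtype.ext h.symm)
  · intro q
    exact congrArg Subtype.val (hb q)

/-- the regular representation -/
def reg (K : Type*) [Field K] (Q : Type*) [Group Q] : Representation K Q (Q → K) where
  toFun g :=
    { toFun := fun c u => c (g⁻¹ * u)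
      map_add' := fun _ _ => rfl
      map_smul' := fun _ _ => rfl }
  map_one' := by
    apply LinearMap.ext
    intro c
    funext u
    show c (1⁻¹ * u) = c u
    rw [inv_one, one_mul]
  map_mul' g h := by
    apply LinearMap.ext
    intro c
    funext u
    show c ((g * h)⁻¹ * u) = c (h⁻¹ * (g⁻¹ * u))
    rw [mul_inv_rev, mul_assoc]

variable {M : Type*} [AddCommGroup M] [Module K M]

/-- if `(∑ Q) f ≠ 0` then the `q f` are linearly independent -/
theorem linInd (h2 : (2 : K) = 0) (hQ : IsPGroup 2 Q) (d : Representation K Q M) {f : M}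
    (hf : ∑ q, d q f ≠ 0) : LinearIndependent K (fun q => d q f) := by
  rw [Fintype.linearIndependent_iff]
  intro c hc q
  by_contra hq
  have hc0 : c ≠ 0 := fun h => hq (congrFun h q)
  obtain ⟨b, hb, hb0, hbf⟩ := exists_fixed h2 hQ (reg K Q) hc0
  -- the kernel
  have hker : ∀ x ∈ AddSubgroup.closure (Set.range fun q => reg K Q q c), ∑ q, x q • d q f = 0 := by
    intro x hx
    induction hx using AddSubgroup.closure_induction with
    | mem x hx =>
      obtain ⟨p, rfl⟩ := hx
      have h1 : ∑ q, (reg K Q p c) q • d q f = d p (∑ q, c q • d q f) := by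
        rw [map_sum]
        apply Fintype.sum_equiv (Equiv.mulLeft p⁻¹)
        intro u
        rw [map_smul]
        show c (p⁻¹ * u) • d u f = c (p⁻¹ * u) • d p (d (p⁻¹ * u) f)
        rw [← Module.End.mul_apply, ← map_mul, mul_inv_cancel_left]
      rw [h1, hc, map_zero]
    | zero => simp
    | add x y _ _ h1 h2 =>
      have : ∑ q, (x + y) q • d q f = ∑ q, x q • d q f + ∑ q, y q • d q f := by
        rw [← Finset.sum_add_distrib]
        exact Finset.sum_congr rfl fun q _ => by rw [Pi.add_apply, add_smul]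
      rw [this, h1, h2, add_zero]
    | neg x _ h =>
      have : ∑ q, (-x) q • d q f = -∑ q, x q • d q f := by
        rw [← Finset.sum_neg_distrib]
        exact Finset.sum_congr rfl fun q _ => by rw [Pi.neg_apply, neg_smul]
      rw [this, h, neg_zero]
  have hconst : ∀ u, b u = b 1 := by
    intro u
    have h1 := congrFun (hbf u) u
    have h3 : b (u⁻¹ * u) = b u := h1
    rw [inv_mul_cancel] at h3
    exact h3.symm
  have hb1 : b 1 ≠ 0 := by
    intro h0
    apply hb0
    funext u
    rw [hconst u, h0]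
    rfl
  have h4 := hker b hb
  have h5 : ∑ q, b q • d q f = b 1 • ∑ q, d q f := by
    rw [Finset.smul_sum]
    exact Finset.sum_congr rfl fun q _ => by rw [hconst q]
  rw [h5, smul_eq_zero] at h4
  rcases h4 with h4 | h4
  · exact hb1 h4
  · exact hf h4

/-- a sum over `Q` of a function with `φ p = φ p⁻¹` reduces to the elements with `p * p = 1` -/
theorem sum_inv_sym (h2 : (2 : K) = 0) {z : Q} (hz1 : z ≠ 1) (hz : z * z = 1)
    (huniq : ∀ q : Q, q * q = 1 → q = 1 ∨ q = z) (φ : Q → K) (hφ : ∀ q, φ q⁻¹ = φ q) :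
    ∑ q, φ q = φ 1 + φ z := by
  classical
  have hdd : ∀ x : K, x + x = 0 := fun x => by rw [← two_mul, h2, zero_mul]
  rw [← Finset.sum_filter_add_sum_filter_not Finset.univ (fun q : Q => q * q = 1) φ]
  have h3 : Finset.univ.filter (fun q : Q => q * q = 1) = {1, z} := by
    ext q
    rw [Finset.mem_filter, Finset.mem_insert, Finset.mem_singleton]
    constructor
    · rintro ⟨-, h⟩
      exact huniq q h
    · rintro (rfl | rfl)
      · exact ⟨Finset.mem_univ _, one_mul 1⟩
      · exact ⟨Finset.mem_univ _, hz⟩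
  have h4 : ∑ q ∈ Finset.univ.filter (fun q : Q => ¬ q * q = 1), φ q = 0 := by
    apply Finset.sum_involution (fun q _ => q⁻¹)
    · intro q _
      rw [hφ, hdd]
    · intro q hq _ h
      rw [Finset.mem_filter] at hq
      apply hq.2
      conv_lhs => rw [← h]
      rw [h]
      have : q⁻¹ * q = 1 := inv_mul_cancel q
      rw [h] at this
      exact this
    · intro q _
      exact inv_inv q
    · intro q hq
      rw [Finset.mem_filter] at hq ⊢
      refine ⟨Finset.mem_univ _, ?_⟩
      intro h
      apply hq.2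
      have h5 : (q * q)⁻¹ = 1 := by rw [mul_inv_rev]; exact h
      exact inv_eq_one.1 h5
  rw [h3, h4, add_zero, Finset.sum_pair (Ne.symm hz1)]

/-- **BETA** -/
theorem beta (h2 : (2 : K) = 0) (hcard : Fintype.card Q = 8) {z : Q} (hz1 : z ≠ 1) (hz : z * z = 1)
    (huniq : ∀ q : Q, q * q = 1 → q = 1 ∨ q = z) (hM : finrank K M = 8) (d : Representation K Q M)
    (Y : M →ₗ[K] M) (B : M →ₗ[K] M →ₗ[K] K) (hnd : ∀ x, (∀ y, B x y = 0) → x = 0) (hsym : ∀ x y, B x y = B y x)
    (hinv : ∀ q x y, B (d q x) (d q y) = B x y) (m : K) (hY : ∀ x y, B (Y x) y + B x (Y y) = m * B x y)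
    (hq : ∀ u, ∑ q, B (Y (d q⁻¹ u)) (d q⁻¹ u) = 0) :
    ¬ Function.Injective (fun x : M => ∑ q, d q (Y (d q⁻¹ x))) := by
  classical
  intro hinj
  have hdd : ∀ x : K, x + x = 0 := fun x => by rw [← two_mul, h2, zero_mul]
  haveI : FiniteDimensional K M := Module.finite_of_finrank_pos (by omega)
  haveI : Nontrivial M := Module.finrank_pos_iff.1 (by omega : 0 < finrank K M)
  have hQ : IsPGroup 2 Q := IsPGroup.of_card (n := 3) (by rw [Nat.card_eq_fintype_card, hcard]; norm_num)
  let a : M →ₗ[K] M := ∑ q, (d q) ∘ₗ Y ∘ₗ (d q⁻¹)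
  have ha : ∀ x, a x = ∑ q, d q (Y (d q⁻¹ x)) := by
    intro x
    show (∑ q, (d q) ∘ₗ Y ∘ₗ (d q⁻¹)) x = _
    rw [LinearMap.sum_apply]
    rfl
  have hainj : Function.Injective a := by
    intro x y hxy
    apply hinj
    show ∑ q, d q (Y (d q⁻¹ x)) = ∑ q, d q (Y (d q⁻¹ y))
    rw [← ha, ← ha, hxy]
  have hcomp : ∀ p q x, d p (d q x) = d (p * q) x := fun p q x => by rw [map_mul]; rfl
  have hone : ∀ x, d 1 x = x := fun x => by rw [map_one]; rfl
  -- `a` commutes with `Q`
  have hac : ∀ p x, a (d p x) = d p (a x) := by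
    intro p x
    rw [ha, ha, map_sum]
    apply Fintype.sum_equiv (Equiv.mulLeft p⁻¹)
    intro u
    show d u (Y (d u⁻¹ (d p x))) = d p (d (p⁻¹ * u) (Y (d (p⁻¹ * u)⁻¹ x)))
    rw [hcomp, hcomp, mul_inv_cancel_left, mul_inv_rev, inv_inv]
  -- a fixed vector
  obtain ⟨v0, hv0⟩ := exists_ne (0 : M)
  obtain ⟨x, -, hx0, hx⟩ := exists_fixed h2 hQ d hv0
  obtain ⟨x', hx'⟩ := (LinearMap.injective_iff_surjective.1 hainj) x
  have hx'f : ∀ p, d p x' = x' := by
    intro p
    apply hainj
    rw [hac, hx', hx]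
  let f : M := Y x'
  have hsum : x = ∑ q, d q f := by
    rw [← hx', ha]
    apply Finset.sum_congr rfl
    intro q _
    rw [hx'f]
  have hli := linInd h2 hQ d (f := f) (by rw [← hsum]; exact hx0)
  -- the span
  have hspan : ∀ y : M, y ∈ Submodule.span K (Set.range fun q => d q f) := by
    have h1 := hli.span_eq_top_of_card_eq_finrank' (by rw [hcard, hM])
    intro y
    rw [h1]
    exact Submodule.mem_top
  -- the form `B (a u) w`
  have hBinv : ∀ q u w, B (a (d q u)) (d q w) = B (a u) w := by
    intro q u w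
    rw [hac, hinv]
  have hBmove : ∀ q u w, B (d q u) w = B u (d q⁻¹ w) := by
    intro q u w
    rw [← hinv q⁻¹ (d q u) w, hcomp, inv_mul_cancel, hone]
  have hYs : ∀ u w, B (Y u) w = B u (Y w) + m * B u w := by
    intro u w
    have h1 := hY u w
    have h3 : B (Y u) w = m * B u w - B u (Y w) := eq_sub_of_add_eq h1
    rw [h3, sub_eq_add_neg, neg_eq_of_add_eq_zero_left (hdd (B u (Y w))), add_comm]
  have hexp : ∀ u w, B (a u) w = ∑ q, B (Y (d q⁻¹ u)) (d q⁻¹ w) := by
    intro u w
    rw [ha, map_sum, LinearMap.sum_apply]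
    apply Finset.sum_congr rfl
    intro q _
    rw [hBmove]
  have h8 : ∀ c : K, ∑ _q : Q, c = 0 := by
    intro c
    rw [Finset.sum_const, Finset.card_univ, hcard, nsmul_eq_mul]
    have : ((8 : ℕ) : K) = 2 * 4 := by norm_num
    rw [this, h2, zero_mul, zero_mul]
  have hBsym : ∀ u w, B (a u) w = B (a w) u := by
    intro u w
    rw [hexp, hexp]
    have h1 : ∀ q, B (Y (d q⁻¹ u)) (d q⁻¹ w) = B (Y (d q⁻¹ w)) (d q⁻¹ u) + m * B u w := by
      intro q
      rw [hYs, hsym, hinv]
    rw [Finset.sum_congr rfl (fun q _ => h1 q), Finset.sum_add_distrib, h8, add_zero]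
  have hff : B (a f) f = 0 := by rw [hexp]; exact hq f
  have hcz : ∀ q, z * q = q * z := by
    intro q
    have h1 : (q * z * q⁻¹) * (q * z * q⁻¹) = 1 := by
      have : (q * z * q⁻¹) * (q * z * q⁻¹) = q * (z * z) * q⁻¹ := by group
      rw [this, hz]
      group
    rcases huniq _ h1 with h | h
    · exfalso
      apply hz1
      have : z = q⁻¹ * (q * z * q⁻¹) * q := by group
      rw [this, h]
      group
    · rw [mul_inv_eq_iff_eq_mul] at h
      exact h.symm
  have hzi : z⁻¹ = z := inv_eq_of_mul_eq_one_left hz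
  have hfz : B (a f) (d z f) = 0 := by
    rw [hexp]
    -- pair `q` and `q z`
    have h1 : ∀ q, B (Y (d q⁻¹ f)) (d q⁻¹ (d z f)) + B (Y (d (q * z)⁻¹ f)) (d (q * z)⁻¹ (d z f)) =
        m * B f (d z f) := by
      intro q
      have e1 : d (q * z)⁻¹ (d z f) = d q⁻¹ f := by
        rw [hcomp, mul_inv_rev, hzi]
        congr 2
        rw [hcz, mul_assoc, hz, mul_one]
      have e2 : d (q * z)⁻¹ f = d q⁻¹ (d z f) := by
        rw [hcomp, mul_inv_rev, hzi]
        congr 2
        rw [hcz]
      rw [e1, e2, hYs (d q⁻¹ (d z f)) (d q⁻¹ f), hsym (d q⁻¹ (d z f)) (Y (d q⁻¹ f)), ← add_assoc, hdd, zero_add,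
        hinv, hsym]
    have h3 : ∑ q, B (Y (d (q * z)⁻¹ f)) (d (q * z)⁻¹ (d z f)) = ∑ q, B (Y (d q⁻¹ f)) (d q⁻¹ (d z f)) := by
      apply Fintype.sum_equiv (Equiv.mulRight z)
      intro q
      rfl
    -- use representatives
    obtain ⟨κ, hκ⟩ : ∃ κ : Q → ℕ, Function.Injective κ :=
      ⟨fun u => (Fintype.equivFin Q u : ℕ), fun a b h => (Fintype.equivFin Q).injective (Fin.ext h)⟩
    have hne : ∀ q, κ q ≠ κ (q * z) := by
      intro q h
      have h4 := hκ h
      apply hz1
      have h5 : q * z = q * 1 := by rw [mul_one]; exact h4.symm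
      exact mul_left_cancel h5
    have hzz : ∀ q : Q, q * z * z = q := fun q => by rw [mul_assoc, hz, mul_one]
    let P : Finset Q := Finset.univ.filter (fun q => κ q < κ (q * z))
    have h6 : ∑ q ∈ Finset.univ.filter (fun q => ¬ κ q < κ (q * z)), B (Y (d q⁻¹ f)) (d q⁻¹ (d z f)) =
        ∑ q ∈ P, B (Y (d (q * z)⁻¹ f)) (d (q * z)⁻¹ (d z f)) := by
      symm
      apply Finset.sum_bij (fun q _ => q * z)
      · intro q hq'
        rw [Finset.mem_filter] at hq' ⊢
        refine ⟨Finset.mem_univ _, ?_⟩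
        rw [hzz]
        exact not_lt.2 hq'.2.le
      · intro a _ b _ hab
        exact mul_right_cancel hab
      · intro q hq'
        rw [Finset.mem_filter] at hq'
        refine ⟨q * z, ?_, hzz q⟩
        rw [Finset.mem_filter]
        refine ⟨Finset.mem_univ _, ?_⟩
        rw [hzz]
        exact lt_of_le_of_ne (not_lt.1 hq'.2) (hne q).symm
      · intro q _
        rfl
    have h7 := Finset.sum_filter_add_sum_filter_not Finset.univ (fun q => κ q < κ (q * z))
      (fun q => B (Y (d q⁻¹ f)) (d q⁻¹ (d z f)))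
    rw [← h7, h6, ← Finset.sum_add_distrib, Finset.sum_congr rfl (fun q _ => h1 q), Finset.sum_const]
    -- `P` has 4 elements
    have hPc : P.card = 4 := by
      have h9 : (Finset.univ.filter (fun q => ¬ κ q < κ (q * z))).card = P.card := by
        symm
        apply Finset.card_bij (fun q _ => q * z)
        · intro q hq'
          rw [Finset.mem_filter] at hq' ⊢
          refine ⟨Finset.mem_univ _, ?_⟩
          rw [hzz]
          exact not_lt.2 hq'.2.le
        · intro a _ b _ hab
          exact mul_right_cancel hab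
        · intro q hq'
          rw [Finset.mem_filter] at hq'
          refine ⟨q * z, ?_, hzz q⟩
          rw [Finset.mem_filter]
          refine ⟨Finset.mem_univ _, ?_⟩
          rw [hzz]
          exact lt_of_le_of_ne (not_lt.1 hq'.2) (hne q).symm
      have h10 := Finset.card_filter_add_card_filter_not (s := (Finset.univ : Finset Q)) (fun q => κ q < κ (q * z))
      rw [h9, Finset.card_univ, hcard] at h10
      have h11 : (Finset.univ.filter (fun q => κ q < κ (q * z))).card = P.card := rfl
      omega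
    rw [hPc, nsmul_eq_mul]
    have : ((4 : ℕ) : K) = 2 * 2 := by norm_num
    rw [this, h2, zero_mul, zero_mul]
  -- `B (a x) (q f) = 0`
  have hax : ∀ q, B (a x) (d q f) = 0 := by
    intro q
    have h1 : B (a x) (d q f) = ∑ p, B (a (d p f)) (d q f) := by
      conv_lhs => rw [hsum]
      rw [map_sum, map_sum, LinearMap.sum_apply]
    have h3 : ∑ p, B (a (d p f)) (d q f) = ∑ p, B (a (d p f)) f := by
      apply Fintype.sum_equiv (Equiv.mulLeft q⁻¹)
      intro p
      show B (a (d p f)) (d q f) = B (a (d (q⁻¹ * p) f)) f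
      rw [← hBinv q⁻¹ (d p f) (d q f), hcomp, hcomp, inv_mul_cancel, hone]
    rw [h1, h3, sum_inv_sym h2 hz1 hz huniq (fun p => B (a (d p f)) f) (by
      intro p
      show B (a (d p⁻¹ f)) f = B (a (d p f)) f
      rw [← hBinv p (d p⁻¹ f) f, hcomp, mul_inv_cancel, hone, hBsym f (d p f)])]
    show B (a (d 1 f)) f + B (a (d z f)) f = 0
    rw [hone, hff, hBsym (d z f) f, hfz, add_zero]
  have hax0 : a x = 0 := by
    apply hnd
    intro y
    have hy := hspan y
    induction hy using Submodule.span_induction with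
    | mem y hy =>
      obtain ⟨q, rfl⟩ := hy
      exact hax q
    | zero => rw [map_zero]
    | add u w _ _ h1 h3 => rw [map_add, h1, h3, add_zero]
    | smul c u _ h1 => rw [map_smul, h1, smul_zero]
  apply hx0
  apply hainj
  rw [hax0, map_zero]

end Cfsg.Agent.H904.L34.Beta
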